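import Groth.Agent.MonoFibre.RigidityProper
import Groth.Agent.ASp.PropDescend
import Groth.Agent.FixedSmooth.Split
import Groth.Prelude.Def_Red

/-!
# Commutativity of smooth groups with abelian generic fibre
-/

set_option autoImplicit false
set_option backward.isDefEq.respectTransparency false

universe u

open CategoryTheory CategoryTheory.Limits MonoidalCategory CartesianMonoidalCategory MonObj GrpObj AlgebraicGeometry

noncomputable section

namespace Groth.Agent.GrpInfLib

open FixedSmooth

theorem one_eq_eta {C : Type*} [Category C] [CartesianMonoidalCategory C] (G : C) [GrpObj G] :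
    (1 : 𝟙_ C ⟶ G) = η[G] := by
  rw [Hom.one_def, toUnit_unique (toUnit _) (𝟙 _), Category.id_comp]

theorem comm_of_isMonHom_inv {C : Type*} [Category C] [CartesianMonoidalCategory C] {G : C} [GrpObj G]
    [IsMonHom ι[G]] {T : C} (a b : T ⟶ G) : a * b = b * a := by
  have h : (a * b)⁻¹ = a⁻¹ * b⁻¹ := by
    rw [Hom.inv_def, Hom.inv_def, Hom.inv_def]
    exact MonObj.mul_comp _ _ _
  have := congrArg (·⁻¹) h
  simpa using this

/-- A smooth separated group over a base is commutative when a dense fibre is. -/
theorem isCommMonObj_of_generic {S T : Scheme.{u}} [IsReduced S] (g : T ⟶ S) [IsDominant g] (B : Over S)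
    [GrpObj B] [Smooth B.hom] [IsSeparated B.hom]
    (h : ∀ (X : Over T) (a b : X ⟶ Red.bc g B), a * b = b * a) : IsCommMonObj B := by
  haveI : Smooth (B ⊗ B).hom := inferInstanceAs (Smooth (pullback.fst B.hom B.hom ≫ B.hom))
  haveI : IsReduced (B ⊗ B).left := ASp.isReduced_of_smooth (B ⊗ B).hom
  let T' : Over T := Over.mk (pullback.snd (B ⊗ B).hom g)
  let m : (Over.map g).obj T' ⟶ B ⊗ B := Over.homMk (pullback.fst (B ⊗ B).hom g) pullback.condition
  haveI : IsDominant m.left := by
    rw [isDominant_iff, DenseRange]
    show Dense (Set.range (pullback.fst (B ⊗ B).hom g))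
    rw [Scheme.Pullback.range_fst]
    exact (IsDominant.denseRange (f := g)).preimage (B ⊗ B).hom.isOpenMap
  have hc : m ≫ (fst B B * snd B B) = m ≫ (snd B B * fst B B) := by
    rw [MonObj.comp_mul, MonObj.comp_mul]
    apply (adjEquiv g B T').injective
    rw [map_mul, map_mul]
    exact h _ _ _
  have heq : (fst B B * snd B B : B ⊗ B ⟶ B) = snd B B * fst B B :=
    Over.OverMorphism.ext (ext_of_isDominant_of_isSeparated B.hom
      ((Over.w _).trans (Over.w _).symm) m.left (congrArg CommaMorphism.left hc))
  refine ⟨?_⟩
  have hμ : (μ[B] : B ⊗ B ⟶ B) = fst B B * snd B B := by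
    rw [Hom.mul_def, lift_fst_snd, Category.id_comp]
  rw [hμ, MonObj.comp_mul]
  simp only [braiding_hom_fst, braiding_hom_snd]
  exact heq.symm

/-- An open immersed subgroup of a commutative group is commutative. -/
theorem isCommMonObj_of_mono {C : Type*} [Category C] [CartesianMonoidalCategory C] [BraidedCategory C] {G H : C}
    [GrpObj G] [GrpObj H] [IsCommMonObj G] (i : H ⟶ G) [IsMonHom i] [Mono i] : IsCommMonObj H := by
  letI : CommGroup (H ⊗ H ⟶ G) := Hom.commGroup
  refine ⟨?_⟩
  have hμ : (μ[H] : H ⊗ H ⟶ H) = fst H H * snd H H := by rw [Hom.mul_def, lift_fst_snd, Category.id_comp]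
  rw [← cancel_mono i, hμ, MonObj.comp_mul, MonObj.mul_comp, MonObj.mul_comp]
  simp only [braiding_hom_fst, braiding_hom_snd]
  exact mul_comm _ _

/-- The spectrum of the fraction field is dense. -/
theorem isDominant_fraction (R K : Type u) [CommRing R] [IsDomain R] [Field K] [Algebra R K] [IsFractionRing R K] :
    IsDominant (Spec.map (CommRingCat.ofHom (algebraMap R K))) := by
  rw [isDominant_iff, DenseRange]
  exact PrimeSpectrum.denseRange_comap_iff_ker_le_nilRadical _ |>.2 (by
    intro a ha
    rw [show a = 0 from IsFractionRing.injective R K ((RingHom.mem_ker.1 ha).trans (map_zero _).symm)]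
    exact zero_mem _)

/-- A smooth separated group over a domain with abelian generic fibre is commutative. -/
theorem isCommMonObj_of_abelian_generic {R : Type u} [CommRing R] [IsDomain R] (K : Type u) [Field K] [Algebra R K]
    [IsFractionRing R K] (N : Over (Spec (CommRingCat.of R))) [GrpObj N] [Smooth N.hom] [IsSeparated N.hom]
    [IsProper (Red.bc (Spec.map (CommRingCat.ofHom (algebraMap R K))) N).hom]
    [GeometricallyIntegral (Red.bc (Spec.map (CommRingCat.ofHom (algebraMap R K))) N).hom] : IsCommMonObj N := by
  let g := Spec.map (CommRingCat.ofHom (algebraMap R K))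
  haveI := isDominant_fraction R K
  haveI : IsMonHom ι[Red.bc g N] := MonoFibre.Rigidity.isMonHom_of_proper ι[Red.bc g N] (by
    rw [← Hom.inv_def, ← one_eq_eta, inv_one])
  exact isCommMonObj_of_generic g N fun X a b => comm_of_isMonHom_inv a b

end Groth.Agent.GrpInfLib
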