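import Groth.Agent.GrpInfLib.TorsLift
import Groth.Agent.GrpInfLib.Comm
import Groth.Agent.Neutral.Field
import Groth.Agent.GrpSchLib.TorsionLift

/-!
# Multiplication by an invertible integer on the identity component of the special fibre
-/

set_option autoImplicit false
set_option backward.isDefEq.respectTransparency false

universe u

open CategoryTheory CategoryTheory.Limits MonoidalCategory CartesianMonoidalCategory MonObj GrpObj AlgebraicGeometry

noncomputable section

namespace Groth.Agent.GrpInfLib

variable {k : Type u} [Field k]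

/-- The `n`-th power is surjective on the identity component of a smooth commutative group over a field. -/
theorem exists_pow_eq_of_mem_component (F : Over (Spec (CommRingCat.of k))) [GrpObj F] [IsCommMonObj F]
    [Smooth F.hom] (n : ℕ) (hn : (n : k) ≠ 0) (w : F.left)
    (hw : w ∈ connectedComponent (η[F].left (IsLocalRing.closedPoint k))) :
    ∃ p ∈ connectedComponent (η[F].left (IsLocalRing.closedPoint k)), (𝟙 F ^ n : F ⟶ F).left p = w := by
  haveI : IsLocallyNoetherian F.left := LocallyOfFiniteType.isLocallyNoetherian F.hom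
  obtain ⟨F₀, str, i, hi, _, _, hr, hgi, -⟩ := Neutral.exists_neutralSubgroup F
  haveI : LocallyOfFinitePresentation i.left := inferInstance
  haveI : IsOpenImmersion i.left := IsOpenImmersion.of_flat_of_mono i.left
  haveI : Mono i := (Over.forget _).mono_of_mono_map (inferInstanceAs (Mono i.left))
  haveI : IsCommMonObj F₀ := isCommMonObj_of_mono i
  haveI : Smooth F₀.hom := by rw [← Over.w i]; infer_instance
  haveI : ConnectedSpace F₀.left := by
    haveI : Nonempty F₀.left := ⟨η[F₀].left (IsLocalRing.closedPoint k)⟩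
    refine { isPreconnected_univ := ?_, toNonempty := inferInstance }
    rw [← i.left.isOpenEmbedding.isInducing.isPreconnected_image, Set.image_univ, hr]
    exact isPreconnected_connectedComponent
  have hn' : IsUnit (n : Γ(Spec (CommRingCat.of k), ⊤)) := by
    have := (IsUnit.mk0 _ hn).map (Scheme.ΓSpecIso (CommRingCat.of k)).inv.hom
    rwa [map_natCast] at this
  haveI := etale_npow F₀ n hn'
  haveI : IsMonHom (𝟙 F₀ ^ n : F₀ ⟶ F₀) := GrpSchLib.isMonHom_pow (𝟙 F₀) n
  have ho : IsOpen (Set.range (𝟙 F₀ ^ n : F₀ ⟶ F₀).left) := (Scheme.Hom.isOpenMap _).isOpen_range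
  have huniv : Set.range (𝟙 F₀ ^ n : F₀ ⟶ F₀).left = Set.univ :=
    IsClopen.eq_univ ⟨GrpSchLib.isClosed_range_of_isOpen _ ho, ho⟩
      ⟨(𝟙 F₀ ^ n : F₀ ⟶ F₀).left (η[F₀].left (IsLocalRing.closedPoint k)), Set.mem_range_self _⟩
  obtain ⟨w₀, rfl⟩ : w ∈ Set.range i.left := hr.symm ▸ hw
  obtain ⟨p₀, hp₀⟩ : w₀ ∈ Set.range (𝟙 F₀ ^ n : F₀ ⟶ F₀).left := huniv.symm ▸ Set.mem_univ w₀
  refine ⟨i.left p₀, hr ▸ Set.mem_range_self p₀, ?_⟩
  have e : i ≫ (𝟙 F ^ n : F ⟶ F) = (𝟙 F₀ ^ n : F₀ ⟶ F₀) ≫ i := by
    rw [MonObj.comp_pow, Category.comp_id, MonObj.pow_comp, Category.id_comp]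
  rw [← Scheme.Hom.comp_apply, ← Over.comp_left, e, Over.comp_left, Scheme.Hom.comp_apply, hp₀]

variable {R : Type u} [CommRing R] [IsLocalRing R]

theorem map_npow {S T : Scheme.{u}} (g : T ⟶ S) (G : Over S) [GrpObj G] (n : ℕ) :
    (Over.pullback g).map (𝟙 G ^ n : G ⟶ G) = (𝟙 (Red.bc g G) ^ n : Red.bc g G ⟶ Red.bc g G) := by
  induction n with
  | zero =>
    rw [pow_zero, pow_zero]
    exact Functor.map_one _
  | succ n ih =>
    rw [pow_succ, pow_succ]
    erw [Functor.map_mul, CategoryTheory.Functor.map_id, ih]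

/-- Sections with `n`-th power in the identity component are lifts of such. -/
theorem exists_section_pow [HenselianLocalRing R] [IsSepClosed (IsLocalRing.ResidueField R)]
    (N : Over (Spec (CommRingCat.of R))) [GrpObj N] [IsCommMonObj N] [Smooth N.hom] (n : ℕ)
    (hn : (n : IsLocalRing.ResidueField R) ≠ 0) (c : 𝟙_ (Over (Spec (CommRingCat.of R))) ⟶ N)
    (hc : c.left (IsLocalRing.closedPoint R) ∈
      connectedComponentIn (N.hom ⁻¹' {IsLocalRing.closedPoint R}) (η[N].left (IsLocalRing.closedPoint R))) :
    ∃ z : 𝟙_ (Over (Spec (CommRingCat.of R))) ⟶ N, z ^ n = c ∧ z.left (IsLocalRing.closedPoint R) ∈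
      connectedComponentIn (N.hom ⁻¹' {IsLocalRing.closedPoint R}) (η[N].left (IsLocalRing.closedPoint R)) := by
  let g := Spec.map (CommRingCat.ofHom (IsLocalRing.residue R))
  let F := Red.bc g N
  let pr : F.left ⟶ N.left := pullback.fst N.hom g
  haveI : Smooth F.hom := inferInstanceAs (Smooth (pullback.snd N.hom g))
  haveI : IsCommMonObj F := inferInstance
  haveI : IsClosedImmersion g := IsClosedImmersion.spec_of_surjective _ IsLocalRing.residue_surjective
  haveI : IsClosedImmersion pr := MorphismProperty.pullback_fst _ _ inferInstance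
  have hrange : Set.range pr = N.hom ⁻¹' {IsLocalRing.closedPoint R} := by
    show Set.range (pullback.fst N.hom g) = _
    rw [Scheme.Pullback.range_fst]
    congr 1
    ext q
    constructor
    · rintro ⟨w, rfl⟩
      have : w = IsLocalRing.closedPoint (IsLocalRing.ResidueField R) := Subsingleton.elim _ _
      rw [this]
      exact IsLocalRing.comap_closedPoint (IsLocalRing.residue R)
    · rintro rfl
      exact ⟨IsLocalRing.closedPoint _, IsLocalRing.comap_closedPoint (IsLocalRing.residue R)⟩
  have hunit : pr (η[F].left (IsLocalRing.closedPoint (IsLocalRing.ResidueField R))) =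
      η[N].left (IsLocalRing.closedPoint R) := by
    have h1 : η[F].left ≫ pr = g ≫ η[N].left := by
      have e : (FixedSmooth.adjEquiv g N (𝟙_ _)).symm (1 : 𝟙_ _ ⟶ Red.bc g N) = 1 := map_one _
      rw [one_eq_eta, Hom.one_def, toUnit_unique (toUnit _) (Over.homMk g rfl)] at e
      exact congrArg CommaMorphism.left e
    rw [← Scheme.Hom.comp_apply, h1, Scheme.Hom.comp_apply]
    congr 1
    exact IsLocalRing.comap_closedPoint (IsLocalRing.residue R)
  have hcomp : ∀ q : F.left, q ∈ connectedComponent (η[F].left (IsLocalRing.closedPoint (IsLocalRing.ResidueField R))) ↔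
      pr q ∈ connectedComponentIn (N.hom ⁻¹' {IsLocalRing.closedPoint R}) (η[N].left (IsLocalRing.closedPoint R)) := by
    intro q
    rw [← hrange, ← hunit]
    constructor
    · intro hq
      exact ((isPreconnected_connectedComponent).image pr pr.continuous.continuousOn).subset_connectedComponentIn
        ⟨_, mem_connectedComponent, rfl⟩ (Set.image_subset_range _ _) ⟨q, hq, rfl⟩
    · intro hq
      have hpre : _root_.IsPreconnected (pr ⁻¹' connectedComponentIn (Set.range pr)
          (pr (η[F].left (IsLocalRing.closedPoint (IsLocalRing.ResidueField R))))) := by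
        rw [← pr.isClosedEmbedding.isInducing.isPreconnected_image,
          Set.image_preimage_eq_of_subset (connectedComponentIn_subset _ _)]
        exact isPreconnected_connectedComponentIn
      exact hpre.subset_connectedComponent (mem_connectedComponentIn (Set.mem_range_self _)) hq
  obtain ⟨w, hw⟩ : c.left (IsLocalRing.closedPoint R) ∈ Set.range pr :=
    hrange.symm ▸ connectedComponentIn_subset _ _ hc
  obtain ⟨p, hp, hpw⟩ := exists_pow_eq_of_mem_component F n hn w ((hcomp w).2 (by rw [hw]; exact hc))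
  let q := (𝟙 N ^ n : N ⟶ N).left
  have hq : q (pr p) = c.left (IsLocalRing.closedPoint R) := by
    have e : ((Over.pullback g).map (𝟙 N ^ n : N ⟶ N)).left ≫ pr = pr ≫ q := pullback.lift_fst _ _ _
    rw [map_npow] at e
    rw [← Scheme.Hom.comp_apply, ← e, Scheme.Hom.comp_apply, hpw, hw]
  have hn' : IsUnit (n : Γ(Spec (CommRingCat.of R), ⊤)) := by
    have h1 : IsUnit (n : R) := by
      rw [← IsLocalRing.residue_ne_zero_iff_isUnit, map_natCast]; exact hn
    have := h1.map (Scheme.ΓSpecIso (CommRingCat.of R)).inv.hom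
    rwa [map_natCast] at this
  haveI : AlgebraicGeometry.Etale q := etale_npow N n hn'
  haveI : AlgebraicGeometry.Etale (pullback.snd q c.left) :=
    MorphismProperty.pullback_snd _ _ (inferInstanceAs (AlgebraicGeometry.Etale q))
  obtain ⟨x, hx1, hx2⟩ := Scheme.Pullback.exists_preimage_pullback (f := q) (g := c.left) (pr p)
    (IsLocalRing.closedPoint R) hq
  obtain ⟨s, hs, hsx⟩ := Hensel.exists_section_of_etale (pullback.snd q c.left) x hx2
  let z : 𝟙_ (Over (Spec (CommRingCat.of R))) ⟶ N := Over.homMk (s ≫ pullback.fst q c.left) (by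
    show (s ≫ pullback.fst q c.left) ≫ N.hom = 𝟙 _
    rw [← Over.w (𝟙 N ^ n : N ⟶ N), Category.assoc, pullback.condition_assoc, reassoc_of% hs]
    exact Over.w c)
  refine ⟨z, ?_, ?_⟩
  · have e : z ≫ (𝟙 N ^ n : N ⟶ N) = c := Over.OverMorphism.ext (by
      show (s ≫ pullback.fst q c.left) ≫ q = c.left
      rw [Category.assoc, pullback.condition, ← Category.assoc, hs]
      exact Category.id_comp _)
    rwa [MonObj.comp_pow, Category.comp_id] at e
  · show (s ≫ pullback.fst q c.left) (IsLocalRing.closedPoint R) ∈ _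
    rw [Scheme.Hom.comp_apply, hsx, hx1]
    exact (hcomp p).1 hp

end Groth.Agent.GrpInfLib
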