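import Groth.Agent.GrpInfLib.EtalePow
import Groth.Agent.Hensel.Sections

/-!
# Lifting prime-to-residue torsion over henselian local rings
-/

set_option autoImplicit false
set_option backward.isDefEq.respectTransparency false

universe u

open CategoryTheory MonoidalCategory CartesianMonoidalCategory MonObj GrpObj AlgebraicGeometry
open CategoryTheory.Limits IsLocalRing

noncomputable section

namespace Groth.Agent.GrpInfLib

variable {R : Type u} [CommRing R] [IsLocalRing R]

/-- Two sections of an unramified morphism that agree on the residue field agree. -/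
theorem eq_of_residue {X : Scheme.{u}} (f : X ⟶ Spec (CommRingCat.of R)) [AlgebraicGeometry.Etale f]
    (s t : Spec (CommRingCat.of R) ⟶ X) (hs : s ≫ f = 𝟙 _) (ht : t ≫ f = 𝟙 _)
    (h : Spec.map (CommRingCat.ofHom (residue R)) ≫ s = Spec.map (CommRingCat.ofHom (residue R)) ≫ t) : s = t := by
  let P : Spec (CommRingCat.of R) ⟶ pullback f f := pullback.lift s t (hs.trans ht.symm)
  haveI : IsOpenImmersion (pullback.diagonal f) := inferInstance
  let e := pullback.snd (pullback.diagonal f) P
  haveI : IsOpenImmersion e := inferInstance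
  have hcl : closedPoint R ∈ Set.range e := by
    refine ⟨(pullback.lift (f := pullback.diagonal f) (g := P) (Spec.map (CommRingCat.ofHom (residue R)) ≫ s)
      (Spec.map (CommRingCat.ofHom (residue R))) ?_) (closedPoint (ResidueField R)), ?_⟩
    · refine pullback.hom_ext ?_ ?_
      · simp only [Category.assoc, pullback.diagonal_fst, Category.comp_id, P, pullback.lift_fst]
      · simp only [Category.assoc, pullback.diagonal_snd, Category.comp_id, P, pullback.lift_snd]
        exact h
    · rw [← Scheme.Hom.comp_apply, pullback.lift_snd]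
      exact comap_closedPoint (residue R)
  have htop : e.opensRange = ⊤ := by
    refine top_le_iff.1 fun p _ => ?_
    exact (specializes_closedPoint p).mem_open e.opensRange.2 hcl
  haveI : Surjective e := ⟨fun p => (htop.ge (show p ∈ (⊤ : (Spec (CommRingCat.of R)).Opens) from trivial))⟩
  haveI : IsIso e := (isIso_iff_isOpenImmersion_and_surjective e).2 ⟨inferInstance, inferInstance⟩
  have hc := pullback.condition (f := pullback.diagonal f) (g := P)
  have h1 := congrArg (· ≫ pullback.fst f f) hc
  have h2 := congrArg (· ≫ pullback.snd f f) hc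
  simp only [Category.assoc, pullback.diagonal_fst, pullback.diagonal_snd, Category.comp_id, P,
    pullback.lift_fst, pullback.lift_snd] at h1 h2
  exact (cancel_epi e).1 (h1.symm.trans h2)

variable (G : Over (Spec (CommRingCat.of R))) [GrpObj G] [IsCommMonObj G] [Smooth G.hom]

/-- The closed point of the base as an `R`-scheme. -/
abbrev resObj (R : Type u) [CommRing R] [IsLocalRing R] : Over (Spec (CommRingCat.of R)) :=
  Over.mk (Spec.map (CommRingCat.ofHom (residue R)))

/-- The base as an object over itself. -/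
abbrev baseObj (R : Type u) [CommRing R] : Over (Spec (CommRingCat.of R)) :=
  Over.mk (𝟙 (Spec (CommRingCat.of R)))

/-- The inclusion of the closed point. -/
abbrev resMap (R : Type u) [CommRing R] [IsLocalRing R] : resObj R ⟶ baseObj R :=
  Over.homMk (Spec.map (CommRingCat.ofHom (residue R))) (Category.comp_id _)

omit [Smooth G.hom] in
theorem kernel_lift {T : Over (Spec (CommRingCat.of R))} (n : ℕ) (a : T ⟶ G) (ha : a ^ n = 1) :
    ∃ b : T ⟶ pullback (𝟙 G ^ n : G ⟶ G) η[G], b ≫ pullback.fst _ _ = a :=
  ⟨pullback.lift a (toUnit T) (by rw [MonObj.comp_pow, Category.comp_id, ha, Hom.one_def]),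
    pullback.lift_fst _ _ _⟩

theorem etale_kernel (n : ℕ) (hn : IsUnit (n : R)) :
    AlgebraicGeometry.Etale (pullback (𝟙 G ^ n : G ⟶ G) η[G]).hom := by
  have hn' : IsUnit (n : Γ(Spec (CommRingCat.of R), ⊤)) := by
    have := hn.map (Scheme.ΓSpecIso (CommRingCat.of R)).inv.hom
    rwa [map_natCast] at this
  haveI := etale_npow G n hn'
  have h1 : AlgebraicGeometry.Etale (pullback.snd (𝟙 G ^ n : G ⟶ G) η[G]).left :=
    MorphismProperty.of_isPullback (P := @AlgebraicGeometry.Etale)
      ((IsPullback.of_hasPullback (𝟙 G ^ n : G ⟶ G) η[G]).map (Over.forget _)) (etale_npow G n hn')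
  rw [← Over.w (pullback.snd (𝟙 G ^ n : G ⟶ G) η[G])]
  haveI := h1
  exact MorphismProperty.comp_mem _ _ _ h1 (inferInstanceAs (AlgebraicGeometry.Etale (𝟙 (Spec (CommRingCat.of R)))))

/-- Torsion of invertible order is determined by its reduction. -/
theorem eq_of_reduction (n : ℕ) (hn : IsUnit (n : R)) (a b : baseObj R ⟶ G) (ha : a ^ n = 1) (hb : b ^ n = 1)
    (h : resMap R ≫ a = resMap R ≫ b) : a = b := by
  haveI := etale_kernel G n hn
  obtain ⟨a', rfl⟩ := kernel_lift G n a ha
  obtain ⟨b', rfl⟩ := kernel_lift G n b hb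
  have e : resMap R ≫ a' = resMap R ≫ b' := by
    refine pullback.hom_ext ?_ (toUnit_unique _ _)
    simpa only [Category.assoc] using h
  exact congrArg (· ≫ pullback.fst _ _) (Over.OverMorphism.ext
    (eq_of_residue _ a'.left b'.left (Over.w a') (Over.w b') (congrArg CommaMorphism.left e)))

/-- Torsion of invertible order lifts uniquely over a henselian local ring. -/
theorem existsUnique_lift [HenselianLocalRing R] (n : ℕ) (hn : IsUnit (n : R)) (τ : resObj R ⟶ G) (hτ : τ ^ n = 1) :
    ∃! σ : baseObj R ⟶ G, σ ^ n = 1 ∧ resMap R ≫ σ = τ := by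
  haveI := etale_kernel G n hn
  obtain ⟨τ', hτ'⟩ := kernel_lift G n τ hτ
  obtain ⟨s, hs, hs'⟩ := Hensel.exists_section_of_smooth (pullback (𝟙 G ^ n : G ⟶ G) η[G]).hom τ'.left (Over.w τ')
  let σ' : baseObj R ⟶ pullback (𝟙 G ^ n : G ⟶ G) η[G] := Over.homMk s hs
  have hσ : (σ' ≫ pullback.fst _ _) ^ n = 1 := by
    rw [← Category.comp_id (σ' ≫ pullback.fst (𝟙 G ^ n : G ⟶ G) η[G]), ← MonObj.comp_pow, Category.assoc,
      pullback.condition, Hom.one_def, ← Category.assoc]
    exact congrArg (· ≫ η[G]) (toUnit_unique _ _)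
  have hσ₂ : resMap R ≫ σ' = τ' := Over.OverMorphism.ext hs'
  refine ⟨σ' ≫ pullback.fst _ _, ⟨hσ, by rw [← Category.assoc, hσ₂, hτ']⟩, fun σ h => ?_⟩
  exact eq_of_reduction G n hn σ _ h.1 hσ (h.2.trans (by rw [← Category.assoc, hσ₂, hτ']))

end Groth.Agent.GrpInfLib
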